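import Groth.Agent.L04.HomAlg.LimHomology
import Groth.Agent.L17.Tower
import Groth.Prelude.Def_Formal2
import Mathlib.GroupTheory.QuotientGroup.Basic

/-!
# The `lim¹` sequence for a tower of complexes with surjective transition maps
-/

set_option autoImplicit false
universe u

open CategoryTheory CategoryTheory.Limits Opposite HomologicalComplex
open Groth.L04.MLSys Groth.L04.AbElt

namespace Groth.L04.LimHom

variable (K : ℕᵒᵖ ⥤ HomologicalComplex AddCommGrpCat.{u} (ComplexShape.up ℤ))

theorem stab_of_surjective (F : ℕᵒᵖ ⥤ AddCommGrpCat.{u})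
    (h : ∀ n, Function.Surjective (res F (Nat.le_succ n))) : ∀ i, ∃ k, Stab F i k := by
  intro i
  refine ⟨i, le_rfl, fun m hm x => ?_⟩
  induction m, hm using Nat.le_induction with
  | base => exact ⟨x, rfl⟩
  | succ m hm ih =>
    obtain ⟨y, hy⟩ := ih
    obtain ⟨y', rfl⟩ := h m y
    exact ⟨y', (res_res F hm (Nat.le_succ m) y').symm.trans hy⟩

theorem exists_pr_succ {q : ℤ} (x : ∀ n : ℕ, (term K q).obj (op n))
    (hx : ∀ n : ℕ, res (term K q) (Nat.le_succ n) (x (n + 1)) = x n) : ∃ l : (limit K).X q, ∀ n, pr K q n l = x n := by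
  refine exists_pr K x fun i j h => ?_
  induction j, h using Nat.le_induction with
  | base => exact res_refl _ _
  | succ j h ih => rw [← ih, ← hx j, res_res]

variable (hK : ∀ (n : ℕ) (q : ℤ), Function.Surjective ((K.map (homOfLE (Nat.le_succ n)).op).f q).hom) (q p : ℤ)

/-- The transition maps of the tower of cycles. -/
noncomputable abbrev tZ (n : ℕ) : (cyc K q).obj (op (n + 1)) →+ (cyc K q).obj (op n) := res (cyc K q) (Nat.le_succ n)

include hK in
theorem exists_towerDiff (y : ∀ n : ℕ, (term K q).obj (op n)) :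
    ∃ x : ∀ n : ℕ, (term K q).obj (op n), ∀ n, x n - res (term K q) (Nat.le_succ n) (x (n + 1)) = y n := by
  choose g hg using fun n => hK n q
  let x : ∀ n : ℕ, (term K q).obj (op n) :=
    fun n => Nat.rec (motive := fun n => (term K q).obj (op n)) 0 (fun n a => g n (a - y n)) n
  refine ⟨x, fun n => ?_⟩
  show x n - res (term K q) (Nat.le_succ n) (g n (x n - y n)) = y n
  rw [show res (term K q) (Nat.le_succ n) (g n (x n - y n)) = x n - y n from hg n _]
  abel

theorem diff_towerDiff {m n : ℤ} (a : ∀ i : ℕ, (term K m).obj (op i)) (i : ℕ) :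
    ((diff K m n).app (op i)).hom (a i - res (term K m) (Nat.le_succ i) (a (i + 1))) =
      ((diff K m n).app (op i)).hom (a i) - res (term K n) (Nat.le_succ i) (((diff K m n).app (op (i + 1))).hom (a (i + 1))) := by
  rw [map_sub, res_app]

/-- The pairs relating a family of cycles with a class on the limit. -/
def Rel (z : ∀ n : ℕ, (cyc K q).obj (op n)) (e : (limit K).homology p) : Prop :=
  ∃ (y : ∀ n : ℕ, (term K q).obj (op n)) (c : (limit K).cycles p),
    (∀ n, y n - res (term K q) (Nat.le_succ n) (y (n + 1)) = ((incl K q).app (op n)).hom (z n)) ∧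
    (∀ n, pr K p n ((limit K).iCycles p c) = ((diff K q p).app (op n)).hom (y n)) ∧ (limit K).homologyπ p c = e

include hK in
theorem exists_rel (z : ∀ n : ℕ, (cyc K q).obj (op n)) : ∃ e, Rel K q p z e := by
  obtain ⟨y, hy⟩ := exists_towerDiff K hK q (fun n => ((incl K q).app (op n)).hom (z n))
  obtain ⟨x, hx⟩ := exists_pr_succ K (fun n => ((diff K q p).app (op n)).hom (y n)) fun n => by
    have h := diff_towerDiff K (n := p) y n
    rw [hy, show ((diff K q p).app (op n)).hom (((incl K q).app (op n)).hom (z n)) = 0 from d_iCycles q p (z n)] at h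
    exact (sub_eq_zero.1 h.symm).symm
  obtain ⟨c, hc⟩ := exists_cycle (K := limit K) ((ComplexShape.up ℤ).next_eq' (show p + 1 = p + 1 from rfl)) x
    (pr_ext K fun n => by
      rw [← pr_d, map_zero, hx]
      exact d_d q p _ (y n))
  exact ⟨_, y, c, hy, fun n => by rw [hc, hx], rfl⟩

variable {q p}

theorem Rel.sub {z z' : ∀ n : ℕ, (cyc K q).obj (op n)} {e e' : (limit K).homology p}
    (h : Rel K q p z e) (h' : Rel K q p z' e') : Rel K q p (z - z') (e - e') := by
  obtain ⟨y, c, h1, h2, rfl⟩ := h
  obtain ⟨y', c', h1', h2', rfl⟩ := h'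
  refine ⟨y - y', c - c', fun n => ?_, fun n => ?_, map_sub _ _ _⟩
  · simp only [Pi.sub_apply, map_sub, ← h1 n, ← h1' n]
    abel
  · simp only [Pi.sub_apply, map_sub, h2, h2']

theorem Rel.eq_zero (hqp : q + 1 = p) {e : (limit K).homology p} (h : Rel K q p 0 e) : e = 0 := by
  obtain ⟨y, c, h1, h2, rfl⟩ := h
  obtain ⟨Y, hY⟩ := exists_pr_succ K y fun n => (sub_eq_zero.1 ((h1 n).trans (map_zero _))).symm
  refine (π_eq_zero_iff ((ComplexShape.up ℤ).prev_eq' hqp) _).2 ⟨Y, pr_ext K fun n => ?_⟩
  rw [← pr_d, hY, h2]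
  rfl

variable (q) in
/-- Cycles as classes. -/
noncomputable def toLimOne : (∀ n : ℕ, (cyc K q).obj (op n)) →+
    Formal2.limOne (fun n => (K.obj (op n)).homology q)
      (fun n => (homologyMap (K.map (homOfLE (Nat.le_succ n)).op) q).hom) :=
  (QuotientAddGroup.mk' _).comp (AddMonoidHom.piMap fun n => ((cls K q).app (op n)).hom)

theorem toLimOne_surjective : Function.Surjective (toLimOne K q) := by
  intro w
  obtain ⟨η, rfl⟩ := QuotientAddGroup.mk_surjective w
  choose z hz using fun n => homologyπ_surjective (K.obj (op n)) q (η n)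
  exact ⟨z, congrArg _ (funext hz)⟩

variable (l : ℤ)

include hK in
theorem rel_zero_iff (hlq : l + 1 = q) (hqp : q + 1 = p) (z : ∀ n : ℕ, (cyc K q).obj (op n)) :
    Rel K q p z 0 ↔ toLimOne K q z = 0 := by
  refine Iff.trans ?_ (QuotientAddGroup.eq_zero_iff _).symm
  constructor
  · rintro ⟨y, c, h1, h2, h3⟩
    obtain ⟨V, hV⟩ := (π_eq_zero_iff ((ComplexShape.up ℤ).prev_eq' hqp) _).1 h3
    have hcyc : ∀ n, ∃ w, ((incl K q).app (op n)).hom w = y n - pr K q n V := fun n => by
      refine exists_cycle ((ComplexShape.up ℤ).next_eq' hqp) _ ?_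
      show ((diff K q p).app (op n)).hom (y n - pr K q n V) = 0
      rw [map_sub, ← h2, ← hV, sub_eq_zero]
      exact (pr_d K q p n V).symm
    choose w hw using hcyc
    refine ⟨fun n => ((cls K q).app (op n)).hom (w n), funext fun n => ?_⟩
    show ((cls K q).app (op n)).hom (w n) - res (hom K q) (Nat.le_succ n) (((cls K q).app (op (n + 1))).hom (w (n + 1))) =
      ((cls K q).app (op n)).hom (z n)
    rw [res_app, ← map_sub]
    refine congrArg _ (iCycles_injective _ q ?_)
    show ((incl K q).app (op n)).hom _ = ((incl K q).app (op n)).hom _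
    rw [map_sub, ← res_app, hw, hw, map_sub, res_pr, ← h1 n]
    abel
  · rintro ⟨η, hη⟩
    obtain ⟨w, hw⟩ : ∃ w : ∀ n : ℕ, (cyc K q).obj (op n), ∀ n, ((cls K q).app (op n)).hom (w n) = η n :=
      ⟨fun n => (homologyπ_surjective (K.obj (op n)) q (η n)).choose, fun n => (homologyπ_surjective (K.obj (op n)) q (η n)).choose_spec⟩
    have hz : ∀ n, ∃ v, ((diff K l q).app (op n)).hom v =
        ((incl K q).app (op n)).hom (z n - (w n - res (cyc K q) (Nat.le_succ n) (w (n + 1)))) := fun n => by
      refine (π_eq_zero_iff ((ComplexShape.up ℤ).prev_eq' hlq) _).1 ?_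
      show ((cls K q).app (op n)).hom _ = 0
      rw [map_sub, map_sub, ← res_app, sub_eq_zero]
      refine (congrFun hη n).symm.trans ?_
      show @HSub.hSub ((hom K q).obj (op n)) ((hom K q).obj (op n)) _ _ (η n) (res (hom K q) (Nat.le_succ n) (η (n + 1))) = _
      rw [← hw n, ← hw (n + 1)]
    choose v hv using hz
    obtain ⟨u, hu⟩ := exists_towerDiff K hK l v
    refine ⟨fun n => ((incl K q).app (op n)).hom (w n) + ((diff K l q).app (op n)).hom (u n), 0, fun n => ?_, fun n => ?_, map_zero _⟩
    · have := (diff_towerDiff K (n := q) u n).symm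
      rw [hu, hv, map_sub, map_sub, ← res_app] at this
      rw [sub_eq_iff_eq_add] at this
      dsimp only
      rw [map_add, this]
      abel
    · rw [map_zero, map_zero, map_add]
      show 0 = (K.obj (op n)).d q p ((K.obj (op n)).iCycles q (w n)) + (K.obj (op n)).d q p ((K.obj (op n)).d l q (u n))
      rw [d_iCycles, d_d, add_zero]

include hK in
theorem nonempty_ker_equiv (hlq : l + 1 = q) (hqp : q + 1 = p) :
    Nonempty ((limit.post K (homologyFunctor _ _ p)).hom.ker ≃+
      Formal2.limOne (fun n => (K.obj (op n)).homology q)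
        (fun n => (homologyMap (K.map (homOfLE (Nat.le_succ n)).op) q).hom)) := by
  choose e he using exists_rel K hK q p
  have huniq : ∀ z e', Rel K q p z e' → e z = e' := fun z e' h =>
    sub_eq_zero.1 ((sub_self z ▸ (he z).sub K h).eq_zero K hqp)
  have hzero : Rel K q p 0 0 := ⟨0, 0, fun n => by simp, fun n => by simp, map_zero _⟩
  let δ : (∀ n : ℕ, (cyc K q).obj (op n)) →+ (limit K).homology p :=
    AddMonoidHom.mk' e fun z z' => by
      have h := (he z).sub K (hzero.sub K (he z'))
      rw [zero_sub, zero_sub, sub_neg_eq_add, sub_neg_eq_add] at h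
      exact huniq _ _ h
  have hrange : δ.range = (limit.post K (homologyFunctor _ _ p)).hom.ker := by
    ext x
    constructor
    · rintro ⟨z, rfl⟩
      obtain ⟨y, c, -, h2, h3⟩ := he z
      show (limit.post K (homologyFunctor _ _ p)).hom (e z) = 0
      rw [← h3]
      refine Concrete.limit_ext _ _ _ fun i => (post_π K p i.unop c).trans (Eq.trans ?_ (map_zero _).symm)
      refine (π_eq_zero_iff ((ComplexShape.up ℤ).prev_eq' hqp) _).2 ⟨y i.unop, ?_⟩
      rw [iCycles_cyclesMap]
      exact (h2 i.unop).symm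
    · intro hx
      obtain ⟨c, rfl⟩ := homologyπ_surjective _ p x
      have hy : ∀ n : ℕ, ∃ y, ((diff K q p).app (op n)).hom y = pr K p n ((limit K).iCycles p c) := fun n => by
        have h0 := (post_π K p n c).symm.trans ((congrArg _ (AddMonoidHom.mem_ker.1 hx)).trans (map_zero _))
        obtain ⟨y, hy⟩ := (π_eq_zero_iff ((ComplexShape.up ℤ).prev_eq' hqp) _).1 h0
        exact ⟨y, hy.trans (iCycles_cyclesMap _ p c)⟩
      choose y hy using hy
      have hz : ∀ n, ∃ z, ((incl K q).app (op n)).hom z = y n - res (term K q) (Nat.le_succ n) (y (n + 1)) := fun n => by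
        refine exists_cycle ((ComplexShape.up ℤ).next_eq' hqp) _ ?_
        show ((diff K q p).app (op n)).hom _ = 0
        rw [map_sub, ← res_app, hy, hy, res_pr, sub_self]
      choose z hz using hz
      exact ⟨z, huniq z _ ⟨y, c, fun n => (hz n).symm, fun n => (hy n).symm, rfl⟩⟩
  refine ⟨((AddEquiv.addSubgroupCongr hrange).symm.trans (QuotientAddGroup.quotientKerEquivRange δ).symm).trans
    ((QuotientAddGroup.quotientAddEquivOfEq ?_).trans
      (QuotientAddGroup.quotientKerEquivOfSurjective (toLimOne K q) (toLimOne_surjective K)))⟩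
  ext z
  rw [AddMonoidHom.mem_ker, AddMonoidHom.mem_ker, ← rel_zero_iff K hK l hlq hqp]
  exact ⟨fun h => (show e z = 0 from h) ▸ he z, fun h => huniq z 0 h⟩

end Groth.L04.LimHom
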